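import Groth.Agent.H26.DepthExtend
import Groth.Agent.Lib.Ample.Basis

/-!
Extending an ample family of sections across points of depth at least two.
-/

set_option autoImplicit false

universe u

open CategoryTheory AlgebraicGeometry TopologicalSpace Opposite

namespace Groth.Agent.Lib.SumihiroQP89

open Groth.Agent.Lib TensorMod TensorMod.Dual TensorMod.Gen Ample Ample.GenLocus Ample.Pow

variable {Y : Scheme.{u}} [IsLocallyNoetherian Y] (W : Y.Opens)
  (hW : ∀ y : Y, y ∉ W → (2 : ℕ∞) ≤ LocCoh.depth (Y.presheaf.stalk y) (Y.presheaf.stalk y))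

include hW in
theorem bijective_ι_app (V : Y.Opens) : Function.Bijective (W.ι.app V) := by
  rw [Scheme.Opens.ι_app]
  have gen : ∀ (O : Y.Opens) (i : O ≤ V), O = V ⊓ W →
      Function.Bijective (Y.presheaf.map (homOfLE i).op) := by
    intro O i he; subst he; exact H26.DepthExtend.bijective_restrict W hW V
  refine gen _ _ ?_
  rw [Scheme.Hom.image_preimage_eq_opensRange_inf, Scheme.Opens.opensRange_ι, inf_comm]

include hW in
/-- An affine open is not enlarged by points of depth at least two. -/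
theorem le_of_inf_le [Y.IsSeparated] {A U : Y.Opens} (hA : IsAffineOpen A) (hU : IsAffineOpen U)
    (h : A ⊓ W ≤ U) : A ≤ U := by
  set B := A ⊓ U with hB'
  have hB : IsAffineOpen B := hA.inf hU
  let res := Y.presheaf.map (homOfLE (inf_le_left : B ≤ A)).op
  have he : W.ι ⁻¹ᵁ B = W.ι ⁻¹ᵁ A := by
    refine Opens.ext (Set.ext fun w => ⟨fun hw => hw.1, fun hw => ⟨hw, h ⟨hw, w.2⟩⟩⟩)
  have hres : Function.Bijective res := by
    refine (Function.Bijective.of_comp_iff' (bijective_ι_app W hW B) res).1 ?_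
    have e : ⇑(W.ι.app B) ∘ ⇑res =
        ⇑((W : Scheme.{u}).presheaf.map (homOfLE he.le).op) ∘ ⇑(W.ι.app A) := funext fun a =>
      ConcreteCategory.congr_hom (W.ι.naturality (homOfLE (inf_le_left : B ≤ A)).op) a
    rw [e]
    haveI : IsIso (homOfLE he.le) := ⟨homOfLE he.ge, rfl, rfl⟩
    exact (ConcreteCategory.bijective_of_isIso _).comp (bijective_ι_app W hW A)
  haveI : IsIso res := (ConcreteCategory.isIso_iff_bijective _).2 hres
  have hr : (A : Set Y) = B := by
    rw [← hA.range_fromSpec, ← hB.range_fromSpec, ← hA.map_fromSpec hB (homOfLE (inf_le_left : B ≤ A)).op,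
      Scheme.Hom.comp_base, TopCat.coe_comp, Set.range_comp]
    have hsurj : Set.range (Spec.map res) = Set.univ :=
      Set.range_eq_univ.2 (Spec.map res).homeomorph.surjective
    erw [hsurj, Set.image_univ]
  intro a ha
  exact (hr.le ha : a ∈ B).2

include hW in
/-- The direct image of a line bundle from a big open, with sections having affine loci that cover. -/
theorem isAmple_pushforward [CompactSpace Y] [Y.IsSeparated] {N : (W : Scheme.{u}).Modules}
    {ι : Type*} (U : ι → Y.Opens) (hU : ∀ i, IsAffineOpen (U i)) (hcov : ∀ y, ∃ i, y ∈ U i)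
    (t : ∀ i, Coh.structureModule (W : Scheme.{u}) ⟶ N) (ht : ∀ i, CohB1.genLocus N (t i) = W.ι ⁻¹ᵁ U i) :
    CohB1.IsAmple ((Scheme.Modules.pushforward W.ι).obj N) := by
  let P := (Scheme.Modules.pushforward W.ι).obj N
  have hs : ∀ i, ∀ (V V' : Y.Opens) (h : V ≤ V'),
      rs P h (show Γ(P, V') from (t i).app (W.ι ⁻¹ᵁ V') (one _ _)) =
        (show Γ(P, V) from (t i).app (W.ι ⁻¹ᵁ V) (one _ _)) := fun i V V' h =>
    rs_app_one (t i) (W.ι.preimage_mono h)
  choose σ hσ using fun i => exists_hom_of_family (M := P) _ (hs i)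
  have hsv : ∀ i (V : Y.Opens), sv (σ i) V = sv (t i) (W.ι ⁻¹ᵁ V) := fun i V => hσ i V
  -- generation passes along the big open
  have key : ∀ i (V : Y.Opens), IsGen P V (sv (σ i) V) ↔ W.ι ⁻¹ᵁ V ≤ CohB1.genLocus N (t i) := by
    intro i V
    have comp : ∀ (V' : Y.Opens) (h : V' ≤ V),
        (fun a : Γ(Y, V') => a • rs P h (sv (σ i) V)) =
          (fun b : Γ((W : Scheme.{u}), W.ι ⁻¹ᵁ V') => b • sv (t i) (W.ι ⁻¹ᵁ V')) ∘ ⇑(W.ι.app V') := fun V' h =>
      funext fun a => by
        rw [rs_sv, hsv]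
        rfl
    constructor
    · intro hg
      refine le_genLocus fun V'' h'' => ?_
      obtain ⟨V', h', rfl⟩ : ∃ V' : Y.Opens, V' ≤ V ∧ W.ι ⁻¹ᵁ V' = V'' :=
        ⟨W.ι ''ᵁ V'', (W.ι.image_mono h'').trans (W.ι.image_preimage_le V), W.ι.preimage_image_eq V''⟩
      rw [rs_sv]
      have := hg V' h'
      rw [comp V' h'] at this
      exact (Function.Bijective.of_comp_iff _ (bijective_ι_app W hW V')).1 this
    · intro hle V' h'
      rw [comp V' h']
      refine Function.Bijective.comp ?_ (bijective_ι_app W hW V')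
      have h := (Ample.Basis.isGen_genLocus (t i)) (W.ι ⁻¹ᵁ V') ((W.ι.preimage_mono h').trans hle)
      rwa [rs_sv] at h
  have hgen : ∀ i, IsGen P (U i) (sv (σ i) (U i)) := fun i => (key i _).2 (ht i).ge
  have hinv : PicF.IsInvertible P := isInvertible_iff.2 fun y =>
    (hcov y).imp' U (fun i h => ⟨_, h, hgen i⟩)
  refine isAmple_iff.2 ⟨hinv, inferInstance, fun y => ?_⟩
  obtain ⟨i, hi⟩ := hcov y
  have heq : CohB1.genLocus P (σ i) = U i := by
    refine le_antisymm (fun z hz => ?_) (le_genLocus (hgen i))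
    obtain ⟨O, hzO, hO⟩ := (mem_genLocus_iff (σ i)).1 hz
    obtain ⟨A, hA, hzA, hAO⟩ := exists_isAffineOpen_mem_and_subset (U := O) hzO
    have h1 := hO.res hAO
    rw [rs_sv] at h1
    have h2 := ((key i A).1 h1).trans (ht i).le
    exact le_of_inf_le W hW hA (hU i) (fun a ha => h2 (x := ⟨a, ha.2⟩) ha.1) hzA
  refine AffineAt.mk Nat.one_pos (powOne P).symm (σ i) ?_ ?_
  · rw [heq]; exact hi
  · rw [heq]; exact hU i

end Groth.Agent.Lib.SumihiroQP89
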