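import Groth.Agent.Lib.SumihiroQP89.Action
import Groth.Agent.Lib.SumihiroQP89.Cartier
import Groth.Agent.Lib.SumihiroQP89.Extend
import Groth.Agent.H18.SerreCrit
import Groth.Agent.H52.SquareGroupVar
import Groth.Agent.H4.CartierSection
import Groth.Agent.H2.Rigid.GeomIrred
import Groth.Agent.Lib.GeomConn.Geometric
import Groth.Agent.Lib.Cyc.SmoothReg
import Groth.Agent.Lib.Ample.RelAmple
import Groth.Prelude.Def_Pi1

/-!
Stable quasi-projective neighbourhoods for actions of connected linear groups on normal varieties.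
-/

set_option autoImplicit false
set_option linter.style.haveILetI false

universe u

open CategoryTheory CategoryTheory.Limits MonoidalCategory CartesianMonoidalCategory MonObj GrpObj AlgebraicGeometry
open TopologicalSpace

namespace Groth.Agent.Lib.SumihiroQP89

open Groth.Agent Groth.Agent.Lib Groth.Agent.Lib.Ample
open Groth.Agent.H52.SquareGroupVar (sl1)

noncomputable section

variable {k : Type u} [Field k]

local notation "Pt" => 𝟙_ (Over (Spec (CommRingCat.of k)))

/-- Normality passes to open subschemes. -/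
theorem isNormalScheme_opens {X : Scheme.{u}} (hX : Pi1.IsNormalScheme X) (V : X.Opens) :
    Pi1.IsNormalScheme (V : Scheme.{u}) := fun y => by
  let e := (asIso (V.ι.stalkMap y)).commRingCatIsoToRingEquiv
  haveI := (hX (V.ι y)).1
  haveI := (hX (V.ι y)).2
  haveI := e.symm.toMulEquiv.isDomain (X.presheaf.stalk (V.ι y))
  exact ⟨inferInstance, IsIntegrallyClosed.of_equiv e⟩

theorem mem_smoothLocus_of_normal [PerfectField k] {X : Scheme.{u}} (f : X ⟶ Spec (CommRingCat.of k))
    [LocallyOfFiniteType f] [LocallyOfFinitePresentation f] (hX : Pi1.IsNormalScheme X) {x : X}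
    (hd : ringKrullDim (X.presheaf.stalk x) ≤ 1) : x ∈ f.smoothLocus := by
  haveI : IsLocallyNoetherian X := LocallyOfFiniteType.isLocallyNoetherian f
  haveI := (hX x).1
  haveI := (hX x).2
  exact Groth.Agent.Lib.JacCrit.OverField.mem_smoothLocus_of_isRegular f x
    (H18.SerreCrit.isRegularLocalRing_of_normal hd)

theorem two_le_depth_of_notMem [PerfectField k] {X : Scheme.{u}} (f : X ⟶ Spec (CommRingCat.of k))
    [LocallyOfFiniteType f] [LocallyOfFinitePresentation f] (hX : Pi1.IsNormalScheme X) {x : X}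
    (hx : x ∉ f.smoothLocus) :
    (2 : ℕ∞) ≤ LocCoh.depth (X.presheaf.stalk x) (X.presheaf.stalk x) := by
  haveI : IsLocallyNoetherian X := LocallyOfFiniteType.isLocallyNoetherian f
  haveI := (hX x).1
  haveI := (hX x).2
  refine H18.SerreCrit.two_le_depth_of_normal ?_
  exact_mod_cast H18.SerreCrit.succ_le_of_not_le 1
    (fun h : ringKrullDim (X.presheaf.stalk x) ≤ ((1 : ℕ) : WithBot ℕ∞) =>
      hx (mem_smoothLocus_of_normal f hX (by exact_mod_cast h)))

variable [IsAlgClosed k]

/-- Smooth irreducible schemes over an algebraically closed field are geometrically integral. -/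
theorem geometricallyIntegral_of_irreducible {X : Scheme.{u}} (f : X ⟶ Spec (CommRingCat.of k)) [Smooth f]
    [IrreducibleSpace X] : GeometricallyIntegral f := by
  letI : X.Over (Spec (CommRingCat.of k)) := ⟨f⟩
  haveI : GeometricallyIrreducible f := by
    show GeometricallyIrreducible (X ↘ Spec (CommRingCat.of k))
    rw [GeomConn.Geometric.geometricallyIrreducible_iff_sepClosure]
    have hb : Function.Bijective (algebraMap k (SeparableClosure k)) :=
      ⟨(algebraMap k (SeparableClosure k)).injective,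
        IsSepClosed.algebraMap_surjective k (SeparableClosure k)⟩
    haveI : IsIso (CommRingCat.ofHom (algebraMap k (SeparableClosure k))) :=
      (ConcreteCategory.isIso_iff_bijective _).2 hb
    exact (Scheme.homeoOfIso (asIso (Curv2.bcFst k X (SeparableClosure k)))).irreducibleSpace_iff.2
      inferInstance
  haveI := H2.Rigid.GeomIrred.geometricallyConnected f
  exact H2.Rigid.GeomIrred.geometricallyIntegral_of_smooth f

variable {G X : Over (Spec (CommRingCat.of k))} [GrpObj G] [IsAffine G.left] [Smooth G.hom]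
  [ConnectedSpace G.left] [IsIntegral X.left] [IsSeparated X.hom] [LocallyOfFiniteType X.hom]
  [QuasiCompact X.hom]

theorem exists_stable_quasiProjective_nhd (hX : Pi1.IsNormalScheme X.left) (a : AlgGrp.Action G X) (x : X.left) :
    ∃ U : X.left.Opens, x ∈ U ∧ a.act.left ⁻¹ᵁ U = (snd G X).left ⁻¹ᵁ U ∧
      RelProj.IsQuasiProjective (U.ι ≫ X.hom) := by
  haveI : IsLocallyNoetherian X.left := LocallyOfFiniteType.isLocallyNoetherian X.hom
  haveI : CompactSpace X.left := QuasiCompact.compactSpace_of_compactSpace X.hom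
  haveI : IsNoetherian X.left := ⟨⟩
  haveI : JacobsonSpace X.left := LocallyOfFiniteType.jacobsonSpace X.hom
  haveI : X.left.IsSeparated := ⟨by rw [← terminal.comp_from X.hom]; infer_instance⟩
  haveI : LocallyOfFinitePresentation X.hom := inferInstance
  haveI : IsIntegral G.left := H2.Rigid.GeomIrred.isIntegral_of_smooth G.hom
  haveI : GeometricallyIntegral G.hom := geometricallyIntegral_of_irreducible G.hom
  haveI : QuasiCompact G.hom := inferInstance
  haveI : IsSeparated G.hom := inferInstance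
  -- the affine open and its translates
  obtain ⟨x₀, hx₀, hx₀c⟩ :=
    (isClosed_closure (s := ({x} : Set X.left))).exists_closed_singleton ⟨x, subset_closure rfl⟩
  obtain ⟨y₀, hy₀⟩ := exists_pt (T := X) hx₀c
  obtain ⟨U, hU, hxU, -⟩ := exists_isAffineOpen_mem_and_subset (U := (⊤ : X.left.Opens)) (x := x₀) trivial
  have hUt : ∀ g : Pt ⟶ G, IsAffineOpen (transOpen a U g) := fun g =>
    (hU.preimage (τ a g).left).inf (hU.preimage (τ a g⁻¹).left)
  let V : X.left.Opens := ⨆ g, transOpen a U g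
  have hxV : x ∈ V := (specializes_iff_mem_closure.2 hx₀).mem_open V.isOpen
    (Opens.mem_iSup.2 (by
      rw [← hy₀]
      exact exists_mem_transOpen a U y₀ (g₀ := 1) (by rw [τ_one, Category.comp_id, hy₀]; exact hxU)))
  -- the smooth locus
  let W : X.left.Opens := X.hom.smoothLocus
  have hWτ : ∀ g : Pt ⟶ G, (τ a g).left ⁻¹ᵁ W = W := fun g => by
    rw [Scheme.Hom.preimage_smoothLocus_eq]
    simp only [Over.w, W]
  have hWst : a.act.left ⁻¹ᵁ W = (snd G X).left ⁻¹ᵁ W := preimage_act_eq a W fun g y => by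
    rw [ev_comp]
    exact Iff.of_eq (congrArg (ev y ∈ ·) (hWτ g))
  haveI : Nonempty (W : Scheme.{u}) := ⟨⟨_, X.hom.genericPoint_mem_smoothLocus_of_perfectField⟩⟩
  let Wo : Over (Spec (CommRingCat.of k)) := Over.mk (W.ι ≫ X.hom)
  haveI : Smooth Wo.hom := by
    show Smooth (W.ι ≫ X.hom)
    rw [← Scheme.Hom.smoothLocus_eq_top_iff, ← Scheme.Hom.preimage_smoothLocus_eq, Scheme.Opens.ι_preimage_self]
  haveI : IsIntegral Wo.left := inferInstanceAs (IsIntegral (W : Scheme.{u}))
  haveI : GeometricallyIntegral Wo.hom := geometricallyIntegral_of_irreducible Wo.hom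
  haveI : QuasiCompact Wo.hom := by show QuasiCompact (W.ι ≫ X.hom); infer_instance
  let iW : Wo ⟶ X := Over.homMk W.ι rfl
  have hrange : Set.range ((G ◁ iW) ≫ a.act).left ⊆ Set.range W.ι := by
    rintro _ ⟨q, rfl⟩
    rw [Scheme.Opens.range_ι, Over.comp_left, Scheme.Hom.comp_apply]
    show (G ◁ iW).left q ∈ a.act.left ⁻¹ᵁ W
    rw [hWst]
    show (snd G X).left ((G ◁ iW).left q) ∈ W
    rw [← Scheme.Hom.comp_apply, ← Over.comp_left, whiskerLeft_snd, Over.comp_left, Scheme.Hom.comp_apply]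
    exact ((snd G Wo).left q).2
  let actW : G ⊗ Wo ⟶ Wo := Over.homMk (IsOpenImmersion.lift W.ι _ hrange) (by
    show IsOpenImmersion.lift W.ι _ hrange ≫ W.ι ≫ X.hom = _
    rw [IsOpenImmersion.lift_fac_assoc, Over.w])
  have hactW : actW ≫ iW = (G ◁ iW) ≫ a.act := Over.OverMorphism.ext (IsOpenImmersion.lift_fac _ _ _)
  have hsl : ∀ g : Pt ⟶ G, (sl1 Wo g ≫ actW) ≫ iW = iW ≫ τ a g := fun g => by
    rw [Category.assoc, hactW, comp_τ, sl1, lift_whiskerLeft_assoc, Category.id_comp]
  -- the divisor on the smooth locus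
  let UW : (W : Scheme.{u}).Opens := W.ι ⁻¹ᵁ U
  have hUWd : Dense (UW : Set (W : Scheme.{u})) := UW.isOpen.dense (by
    obtain ⟨w, hwW, hwU⟩ := nonempty_preirreducible_inter W.isOpen U.isOpen
      ⟨_, X.hom.genericPoint_mem_smoothLocus_of_perfectField⟩ ⟨x₀, hxU⟩
    exact ⟨⟨w, hwW⟩, hwU⟩)
  obtain ⟨L, s, hL, hs⟩ := H4.CartierSection.exists_section _
    (isEffCartier_compl (X := (W : Scheme.{u})) (U := UW)
      (fun p hp hmax => by
        rw [← ringKrullDim_eq_of_ringEquiv (asIso (W.ι.stalkMap p)).commRingCatIsoToRingEquiv]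
        refine SurfInt.AffineCompl.ringKrullDim_stalk_le_one
          (fun P Q hP hQ => SurfInt.AffineCompl.inf_affine P Q hP hQ) hU hp fun y hy hyp => ?_
        have hyW : y ∈ W := hyp.mem_open W.isOpen p.2
        exact congrArg W.ι (hmax ⟨y, hyW⟩ hy ((subtype_specializes_iff _ _).2 hyp)))
      hUWd
      (fun w _ => by
        haveI : IsRegularLocalRing ((W : Scheme.{u}).presheaf.stalk w) :=
          Groth.Agent.Lib.Cyc.SmoothReg.isRegularLocalRing_stalk Wo.hom w
        haveI := Groth.Agent.Lib.Regular.Quotient.isDomain ((W : Scheme.{u}).presheaf.stalk w)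
        exact ⟨inferInstance, Groth.Agent.Lib.Regular.UFD.uniqueFactorizationMonoid _⟩))
  have hloc : CohB1.genLocus L s = UW := by
    refine Opens.ext (Set.ext fun w => (hs w).trans ?_)
    rw [← SetLike.mem_coe, Scheme.IdealSheafData.coe_support_vanishingIdeal]
    exact not_not
  -- translated sections
  let Lm := (Scheme.Modules.pullback actW.left).obj L
  have hLm : PicF.IsInvertible Lm := PicLoc.isInvertible_pullback actW.left hL
  let M := fun g : Pt ⟶ G => (Scheme.Modules.pullback (sl1 Wo g).left).obj Lm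
  have hM : ∀ g, PicF.IsInvertible (M g) := fun g => PicLoc.isInvertible_pullback _ hLm
  have hsec : ∀ g, ∃ t : Coh.structureModule Wo.left ⟶ M g,
      CohB1.genLocus (M g) t = W.ι ⁻¹ᵁ ((τ a g).left ⁻¹ᵁ U) := by
    intro g
    refine ⟨((PicLoc.pullbackStructureIso (sl1 Wo g ≫ actW).left).symm.hom ≫
        (Scheme.Modules.pullback (sl1 Wo g ≫ actW).left).map s) ≫
      ((Scheme.Modules.pullbackCongr (show (sl1 Wo g ≫ actW).left = (sl1 Wo g).left ≫ actW.left by
          rw [Over.comp_left])).app L ≪≫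
        ((Scheme.Modules.pullbackComp (sl1 Wo g).left actW.left).app L).symm).hom, ?_⟩
    rw [GenLocus.genLocus_comp_iso, GenLocus.genLocus_pullback _ hL, hloc]
    show (sl1 Wo g ≫ actW).left ⁻¹ᵁ (iW.left ⁻¹ᵁ U) = iW.left ⁻¹ᵁ ((τ a g).left ⁻¹ᵁ U)
    rw [← Scheme.Hom.comp_preimage, ← Scheme.Hom.comp_preimage, ← Over.comp_left, hsl, Over.comp_left]
  choose t ht using hsec
  let N := CohB1.tensorMod (M 1) (M 1)
  have hN : PicF.IsInvertible N := TensorMod.Invertible.isInvertible_tensorMod (hM 1) (hM 1)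
  have hpair : ∀ g, ∃ r : Coh.structureModule Wo.left ⟶ N,
      CohB1.genLocus N r = W.ι ⁻¹ᵁ transOpen a U g := by
    intro g
    obtain ⟨e⟩ := H52.SquareGroupVar.nonempty_iso (G := G) (W := Wo) Lm hLm
      (a1 := g) (a2 := 1) (a3 := 1) (a4 := g⁻¹) (by simp)
    refine ⟨SecTwist.tmulHom (t g) (t g⁻¹) ≫ e.hom, ?_⟩
    rw [GenLocus.genLocus_comp_iso, GenLocus.genLocus_tmulHom (hM g) (hM g⁻¹), ht, ht]
    rfl
  choose r hr using hpair
  -- the extension to the stable open
  let Y : Scheme.{u} := V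
  haveI : CompactSpace Y := isCompact_iff_compactSpace.mp (NoetherianSpace.isCompact (V : Set X.left))
  haveI : LocallyOfFiniteType (V.ι ≫ X.hom) := inferInstance
  haveI : QuasiCompact (V.ι ≫ X.hom) := inferInstance
  haveI : IsLocallyNoetherian Y := LocallyOfFiniteType.isLocallyNoetherian (V.ι ≫ X.hom)
  haveI : Y.IsSeparated := ⟨by rw [← terminal.comp_from (V.ι ≫ X.hom)]; infer_instance⟩
  let WY : Y.Opens := V.ι ⁻¹ᵁ W
  have hdepth : ∀ y : Y, y ∉ WY → (2 : ℕ∞) ≤ LocCoh.depth (Y.presheaf.stalk y) (Y.presheaf.stalk y) := by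
    intro y hy
    refine two_le_depth_of_notMem (V.ι ≫ X.hom) (isNormalScheme_opens hX V) ?_
    rwa [← Scheme.Hom.preimage_smoothLocus_eq]
  have hj : Set.range (WY.ι ≫ V.ι) ⊆ Set.range W.ι := by
    rintro _ ⟨q, rfl⟩
    rw [Scheme.Opens.range_ι, Scheme.Hom.comp_apply]
    exact q.2
  let j : (WY : Scheme.{u}) ⟶ Wo.left := IsOpenImmersion.lift W.ι (WY.ι ≫ V.ι) hj
  have hUY : ∀ g, IsAffineOpen (V.ι ⁻¹ᵁ transOpen a U g) := fun g =>
    (hUt g).preimage_of_isOpenImmersion V.ι (by rw [Scheme.Opens.opensRange_ι]; exact le_iSup (transOpen a U) g)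
  have hcov : ∀ y : Y, ∃ g, y ∈ V.ι ⁻¹ᵁ transOpen a U g := fun y => by
    have h : V.ι y ∈ ⨆ g, transOpen a U g := y.2
    obtain ⟨g, hg⟩ := Opens.mem_iSup.1 h
    exact ⟨g, hg⟩
  let tY := fun g : Pt ⟶ G =>
    (PicLoc.pullbackStructureIso j).symm.hom ≫ (Scheme.Modules.pullback j).map (r g)
  have htY : ∀ g, CohB1.genLocus _ (tY g) = WY.ι ⁻¹ᵁ (V.ι ⁻¹ᵁ transOpen a U g) := fun g => by
    rw [GenLocus.genLocus_pullback _ hN, hr, ← Scheme.Hom.comp_preimage, IsOpenImmersion.lift_fac,
      Scheme.Hom.comp_preimage]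
  have hA := isAmple_pushforward WY hdepth (fun g => V.ι ⁻¹ᵁ transOpen a U g) hUY hcov tY htY
  exact ⟨V, hxV, preimage_act_iSup a U, inferInstance, inferInstance, _,
    (RelAmple.isRelAmple_iff_isAmple (V.ι ≫ X.hom)).2 hA⟩

end

end Groth.Agent.Lib.SumihiroQP89
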