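import Groth.Prelude.Def_AlgGrp
import Mathlib.AlgebraicGeometry.AlgClosed.Basic
import Mathlib.AlgebraicGeometry.Morphisms.FiniteType

/-!
Translations by rational points and stable opens.
-/

set_option autoImplicit false

universe u

open CategoryTheory CategoryTheory.Limits MonoidalCategory CartesianMonoidalCategory MonObj GrpObj AlgebraicGeometry
open TopologicalSpace

namespace Groth.Agent.Lib.SumihiroQP89

noncomputable section

variable {k : Type u} [Field k]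

local notation "Pt" => 𝟙_ (Over (Spec (CommRingCat.of k)))

variable {G X : Over (Spec (CommRingCat.of k))} [GrpObj G] (a : AlgGrp.Action G X)

/-- The image of the point of a rational point. -/
abbrev ev {T : Over (Spec (CommRingCat.of k))} (p : Pt ⟶ T) : T.left := p.left (IsLocalRing.closedPoint k)

theorem ev_comp {T T' : Over (Spec (CommRingCat.of k))} (p : Pt ⟶ T) (f : T ⟶ T') :
    ev (p ≫ f) = f.left (ev p) := by
  simp only [ev, Over.comp_left, Scheme.Hom.comp_apply]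

/-- Translation by a point of the group. -/
def τ (g : Pt ⟶ G) : X ⟶ X := lift (toUnit X ≫ g) (𝟙 X) ≫ a.act

theorem comp_τ {T : Over (Spec (CommRingCat.of k))} (z : T ⟶ X) (g : Pt ⟶ G) :
    z ≫ τ a g = lift (toUnit T ≫ g) z ≫ a.act := by
  rw [τ, comp_lift_assoc, Category.comp_id, ← Category.assoc z, toUnit_unique (z ≫ toUnit X) (toUnit T)]

theorem lift_one_act {T : Over (Spec (CommRingCat.of k))} (z : T ⟶ X) :
    lift (toUnit T ≫ η[G]) z ≫ a.act = z := by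
  rw [← lift_whiskerRight, Category.assoc, a.one_act]
  simp

theorem lift_mul_act {T : Over (Spec (CommRingCat.of k))} (g h : T ⟶ G) (z : T ⟶ X) :
    lift (g * h) z ≫ a.act = lift g (lift h z ≫ a.act) ≫ a.act := by
  rw [Hom.mul_def, ← lift_whiskerRight, Category.assoc, a.mul_act, lift_lift_associator_hom_assoc,
    lift_whiskerLeft_assoc]

theorem τ_one : τ a (1 : Pt ⟶ G) = 𝟙 X := by
  have : toUnit X ≫ (1 : Pt ⟶ G) = toUnit X ≫ η[G] := by
    rw [Hom.one_def, ← Category.assoc, toUnit_unique (toUnit X ≫ toUnit _) (toUnit X)]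
  rw [τ, this, lift_one_act]

theorem τ_mul (g h : Pt ⟶ G) : τ a (g * h) = τ a h ≫ τ a g := by
  rw [comp_τ a (τ a h) g]
  simp only [τ, MonObj.comp_mul, lift_mul_act]

/-- Translation as an automorphism. -/
def τIso (g : Pt ⟶ G) : X ≅ X where
  hom := τ a g
  inv := τ a g⁻¹
  hom_inv_id := by rw [← τ_mul, inv_mul_cancel, τ_one]
  inv_hom_id := by rw [← τ_mul, mul_inv_cancel, τ_one]

instance (g : Pt ⟶ G) : IsIso (τ a g).left :=
  ((Over.forget _).mapIso (τIso a g)).isIso_hom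

theorem comp_orbitMap (g : Pt ⟶ G) (y : Pt ⟶ X) : g ≫ a.orbitMap y = y ≫ τ a g := by
  rw [AlgGrp.Action.orbitMap, comp_τ, comp_lift_assoc, Category.comp_id, ← Category.assoc g,
    toUnit_unique (g ≫ toUnit G) (𝟙 _), Category.id_comp, toUnit_unique (toUnit Pt) (𝟙 _), Category.id_comp]

variable [IsAlgClosed k]

theorem exists_pt {T : Over (Spec (CommRingCat.of k))} [LocallyOfFiniteType T.hom] {x : T.left}
    (hx : IsClosed ({x} : Set T.left)) : ∃ p : Pt ⟶ T, ev p = x :=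
  ⟨Over.homMk (pointOfClosedPoint T.hom x hx) (pointOfClosedPoint_comp T.hom x hx),
    pointOfClosedPoint_apply T.hom x hx _⟩

theorem le_of_points {T : Over (Spec (CommRingCat.of k))} [LocallyOfFiniteType T.hom] {O₁ O₂ : T.left.Opens}
    (h : ∀ p : Pt ⟶ T, ev p ∈ O₁ → ev p ∈ O₂) : O₁ ≤ O₂ := by
  haveI : JacobsonSpace T.left := LocallyOfFiniteType.jacobsonSpace T.hom
  intro x hx
  by_contra hx'
  obtain ⟨x₀, ⟨h1, h2⟩, hc⟩ := nonempty_inter_closedPoints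
    (Z := (O₁ : Set T.left) ∩ (O₂ : Set T.left)ᶜ) ⟨x, hx, hx'⟩
    (O₁.isOpen.isLocallyClosed.inter O₂.isOpen.isClosed_compl.isLocallyClosed)
  obtain ⟨p, rfl⟩ := exists_pt hc
  exact h2 (h p h1)

/-- Stability under the action is seen on translations of rational points. -/
theorem preimage_act_eq [LocallyOfFiniteType G.hom] [LocallyOfFiniteType X.hom] (U : X.left.Opens)
    (h : ∀ (g : Pt ⟶ G) (y : Pt ⟶ X), ev (y ≫ τ a g) ∈ U ↔ ev y ∈ U) :
    a.act.left ⁻¹ᵁ U = (snd G X).left ⁻¹ᵁ U := by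
  haveI : LocallyOfFiniteType (G ⊗ X).hom := by rw [Over.tensorObj_hom]; infer_instance
  have key : ∀ p : Pt ⟶ G ⊗ X, ev p ∈ a.act.left ⁻¹ᵁ U ↔ ev p ∈ (snd G X).left ⁻¹ᵁ U := fun p => by
    have e : p ≫ a.act = (p ≫ snd G X) ≫ τ a (p ≫ fst G X) := by
      rw [comp_τ, toUnit_unique (toUnit Pt) (𝟙 _), Category.id_comp, ← comp_lift, lift_fst_snd, Category.comp_id]
    show a.act.left (ev p) ∈ U ↔ (snd G X).left (ev p) ∈ U
    rw [← ev_comp, ← ev_comp, e]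
    exact h _ _
  exact le_antisymm (le_of_points fun p => (key p).1) (le_of_points fun p => (key p).2)

variable [LocallyOfFiniteType G.hom] [IrreducibleSpace G.left]

/-- The pair of translated opens. -/
def transOpen (U : X.left.Opens) (g : Pt ⟶ G) : X.left.Opens :=
  (τ a g).left ⁻¹ᵁ U ⊓ (τ a g⁻¹).left ⁻¹ᵁ U

theorem exists_mem_transOpen (U : X.left.Opens) (y : Pt ⟶ X) {g₀ : Pt ⟶ G} (h : ev (y ≫ τ a g₀) ∈ U) :
    ∃ g, ev y ∈ transOpen a U g := by
  haveI : JacobsonSpace G.left := LocallyOfFiniteType.jacobsonSpace G.hom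
  let P₁ := (a.orbitMap y).left ⁻¹ᵁ U
  let P₂ := (ι[G] ≫ a.orbitMap y).left ⁻¹ᵁ U
  have h₁ : ∀ g : Pt ⟶ G, ev g ∈ P₁ ↔ ev y ∈ (τ a g).left ⁻¹ᵁ U := fun g => by
    show (a.orbitMap y).left (ev g) ∈ U ↔ (τ a g).left (ev y) ∈ U
    rw [← ev_comp, ← ev_comp, comp_orbitMap]
  have h₂ : ∀ g : Pt ⟶ G, ev g ∈ P₂ ↔ ev y ∈ (τ a g⁻¹).left ⁻¹ᵁ U := fun g => by
    show (ι[G] ≫ a.orbitMap y).left (ev g) ∈ U ↔ (τ a g⁻¹).left (ev y) ∈ U
    rw [← ev_comp, ← ev_comp, ← Category.assoc, ← Hom.inv_def, comp_orbitMap]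
  rw [ev_comp] at h
  obtain ⟨v, hv1, hv2⟩ := nonempty_preirreducible_inter P₁.isOpen P₂.isOpen
    ⟨ev g₀, (h₁ g₀).2 h⟩ ⟨ev g₀⁻¹, (h₂ g₀⁻¹).2 (by rw [_root_.inv_inv]; exact h)⟩
  obtain ⟨g₁, ⟨hg1, hg2⟩, hgc⟩ := nonempty_inter_closedPoints (Z := (P₁ : Set G.left) ∩ P₂)
    ⟨v, hv1, hv2⟩ (P₁.isOpen.inter P₂.isOpen).isLocallyClosed
  obtain ⟨g, rfl⟩ := exists_pt hgc
  exact ⟨g, (h₁ g).1 hg1, (h₂ g).1 hg2⟩

/-- The union of the translates is stable. -/
theorem preimage_act_iSup [LocallyOfFiniteType X.hom] (U : X.left.Opens) :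
    a.act.left ⁻¹ᵁ (⨆ g, transOpen a U g) = (snd G X).left ⁻¹ᵁ (⨆ g, transOpen a U g) := by
  refine preimage_act_eq a _ fun g y => ?_
  have iff : ∀ z : Pt ⟶ X, ev z ∈ ⨆ g, transOpen a U g ↔ ∃ g, ev (z ≫ τ a g) ∈ U := fun z => by
    refine ⟨fun hz => ?_, fun ⟨g₀, hg⟩ => Opens.mem_iSup.2 (exists_mem_transOpen a U z hg)⟩
    obtain ⟨g', hg'⟩ := Opens.mem_iSup.1 hz
    exact ⟨g', by rw [ev_comp]; exact hg'.1⟩
  rw [iff, iff]
  constructor
  · rintro ⟨g', hg'⟩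
    exact ⟨g' * g, by rwa [τ_mul, ← Category.assoc]⟩
  · rintro ⟨g', hg'⟩
    exact ⟨g' * g⁻¹, by rwa [Category.assoc, ← τ_mul, inv_mul_cancel_right]⟩

end

end Groth.Agent.Lib.SumihiroQP89
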